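import Groth.Prelude.Def_CAlg
import Groth.Agent.Lib.Depth.CM
import Groth.Agent.Lib.Depth.More
import Mathlib.RingTheory.Flat.Basic
import Mathlib.RingTheory.Artinian.Ring
import Mathlib.RingTheory.Ideal.AssociatedPrime.Localization
import Mathlib.RingTheory.Nilpotent.Lemmas

/-!
# Flatness over an Artinian base from flatness in codimension one
-/

open IsLocalRing RingTheory.Sequence Submodule Pointwise

namespace Groth.Agent.FlatArt

universe u

section Regular

variable {B : Type u} [CommRing B] [IsNoetherianRing B]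

theorem exists_regular_list_of_hasSk {k : ℕ} (h : LocCoh.HasSk k B B) (q : Ideal B) [q.IsPrime]
    (hq : (k : ℕ∞) ≤ q.height) :
    ∃ rs : List (Localization.AtPrime q), IsWeaklyRegular (Localization.AtPrime q) rs ∧
      (∀ r ∈ rs, r ∈ maximalIdeal (Localization.AtPrime q)) ∧ rs.length = k := by
  have h1 := h q
  rw [DepthLib.supportDim_eq_ringKrullDim_of_isPrime, DepthLib.depth_localizedModule_self] at h1
  have h2 : min (k : WithBot ℕ∞) (q.height : WithBot ℕ∞) = k :=
    min_eq_left (WithBot.coe_le_coe.2 hq)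
  rw [h2] at h1
  refine DepthLib.exists_isWeaklyRegular_of_le_idealDepth ?_ (WithBot.coe_le_coe.1 h1)
  rw [smul_eq_mul, Ideal.mul_top]
  exact (maximalIdeal.isMaximal _).ne_top

theorem mem_minimalPrimes_of_mem_associatedPrimes (h : LocCoh.HasSk 1 B B) {q : Ideal B}
    (hq : q ∈ associatedPrimes B B) : q ∈ minimalPrimes B := by
  haveI := hq.isPrime
  rw [← Ideal.height_eq_zero_iff]
  by_contra hne
  obtain ⟨rs, hr, hrm, hl⟩ := exists_regular_list_of_hasSk (k := 1) h q
    (by exact_mod_cast Order.one_le_iff_ne_zero.2 hne)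
  obtain ⟨c, rfl⟩ := List.length_eq_one_iff.1 hl
  obtain ⟨-, x, hx⟩ := isAssociatedPrime_iff.1 hq
  obtain ⟨b, s, rfl⟩ := IsLocalization.exists_mk'_eq q.primeCompl c
  have hbq : b ∈ q := (IsLocalization.AtPrime.mk'_mem_maximal_iff (Localization.AtPrime q) q b s).1 (hrm _ List.mem_cons_self)
  have hbx : b * x = 0 := by
    rw [hx, mem_colon_singleton, mem_bot] at hbq
    exact hbq
  have h0 : algebraMap B (Localization.AtPrime q) x = 0 := by
    refine (isWeaklyRegular_singleton_iff _ _).1 hr ?_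
    show IsLocalization.mk' _ b s * _ = IsLocalization.mk' _ b s * 0
    rw [mul_zero, IsLocalization.mk'_eq_mul_mk'_one, mul_right_comm, ← map_mul, hbx, map_zero, zero_mul]
  obtain ⟨t, ht⟩ := (IsLocalization.map_eq_zero_iff q.primeCompl _ x).1 h0
  exact t.2 ((SetLike.ext_iff.1 hx (t : B)).2 (mem_colon_singleton.2 ((mem_bot _).2 ht)))

theorem height_map_mk_nilradical (q : Ideal B) [hq : q.IsPrime] :
    (q.map (Ideal.Quotient.mk (nilradical B))).height = q.height := by
  have hN : ∀ p : Ideal B, p.IsPrime → nilradical B ≤ p := fun p hp => nilradical_le_prime p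
  let e : PrimeSpectrum B ≃o PrimeSpectrum (B ⧸ nilradical B) :=
    { toFun := fun p => ⟨p.asIdeal.map (Ideal.Quotient.mk _),
        Ideal.map_isPrime_of_surjective Ideal.Quotient.mk_surjective (by rw [Ideal.mk_ker]; exact hN _ p.2)⟩
      invFun := fun p => PrimeSpectrum.comap (Ideal.Quotient.mk _) p
      left_inv := fun p => PrimeSpectrum.ext (by
        show (p.asIdeal.map _).comap _ = p.asIdeal
        rw [Ideal.comap_map_of_surjective' _ Ideal.Quotient.mk_surjective, Ideal.mk_ker]
        exact sup_eq_left.2 (hN _ p.2))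
      right_inv := fun p => PrimeSpectrum.ext (Ideal.map_comap_of_surjective _ Ideal.Quotient.mk_surjective _)
      map_rel_iff' := fun {a b} => by
        show a.asIdeal.map _ ≤ b.asIdeal.map _ ↔ a.asIdeal ≤ b.asIdeal
        refine ⟨fun h => ?_, Ideal.map_mono⟩
        have := Ideal.comap_mono (f := Ideal.Quotient.mk (nilradical B)) h
        rwa [Ideal.comap_map_of_surjective' _ Ideal.Quotient.mk_surjective, Ideal.mk_ker,
          Ideal.comap_map_of_surjective' _ Ideal.Quotient.mk_surjective, Ideal.mk_ker,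
          sup_eq_left.2 (hN _ a.2), sup_eq_left.2 (hN _ b.2)] at this }
  rw [show q.map (Ideal.Quotient.mk (nilradical B)) = (e ⟨q, hq⟩).asIdeal from rfl,
    PrimeSpectrum.height_eq_orderHeight, Order.height_orderIso, ← PrimeSpectrum.height_eq_orderHeight]

/-- the elementary form of depth two of the reduction at `q` -/
theorem exists_pair (h2 : LocCoh.HasSk 2 (B ⧸ nilradical B) (B ⧸ nilradical B)) (q : Ideal B) [q.IsPrime]
    (hq : 2 ≤ q.height) :
    ∃ x y, x ∈ q ∧ y ∈ q ∧ (∀ P ∈ minimalPrimes B, P ≤ q → x ∉ P) ∧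
      ∀ u v, y * u - x * v ∈ nilradical B → ∃ s ∉ q, ∃ w, s * u - x * w ∈ nilradical B := by
  let f := Ideal.Quotient.mk (nilradical B)
  have hker : RingHom.ker f ≤ q := by rw [Ideal.mk_ker]; exact nilradical_le_prime q
  have hqcomap : (q.map f).comap f = q := by
    rw [Ideal.comap_map_of_surjective' _ Ideal.Quotient.mk_surjective, sup_eq_left.2 hker]
  haveI : (q.map f).IsPrime := Ideal.map_isPrime_of_surjective Ideal.Quotient.mk_surjective hker
  obtain ⟨rs, hr, hrm, hl⟩ := exists_regular_list_of_hasSk (k := 2) h2 (q.map f)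
    (by rw [height_map_mk_nilradical]; exact_mod_cast hq)
  obtain ⟨c, d, rfl⟩ := List.length_eq_two.1 hl
  obtain ⟨hc, hd⟩ := (isWeaklyRegular_cons_iff _ c [d]).1 hr
  rw [isWeaklyRegular_singleton_iff] at hd
  let T := Localization.AtPrime (q.map f)
  let φ : B →+* T := (algebraMap (B ⧸ nilradical B) T).comp f
  have hex : ∀ c ∈ maximalIdeal T, ∃ (x : B) (v : Tˣ), x ∈ q ∧ φ x = c * v := by
    intro c hc
    obtain ⟨b, s, rfl⟩ := IsLocalization.exists_mk'_eq (q.map f).primeCompl c
    obtain ⟨x, rfl⟩ := Ideal.Quotient.mk_surjective b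
    refine ⟨x, (IsLocalization.map_units T s).unit, ?_, (IsLocalization.mk'_spec T _ s).symm⟩
    rw [← hqcomap]
    exact (IsLocalization.AtPrime.mk'_mem_maximal_iff T (q.map f) _ s).1 hc
  obtain ⟨x, v, hxq, hx⟩ := hex c (hrm c (by simp))
  obtain ⟨y, w, hyq, hy⟩ := hex d (hrm d (by simp))
  have hxreg : ∀ t : T, φ x * t = 0 → t = 0 := fun t ht => by
    rw [hx] at ht
    have := hc (show c • ((v : T) * t) = c • (0 : T) by simp [smul_eq_mul, ← mul_assoc, ht])
    exact (Units.mul_right_eq_zero v).1 this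
  have hzero : ∀ b : B, φ b = 0 → ∃ s ∉ q, s * b ∈ nilradical B := fun b hb => by
    obtain ⟨s, hs⟩ := (IsLocalization.map_eq_zero_iff (q.map f).primeCompl T (f b)).1 hb
    obtain ⟨s', hs'⟩ := Ideal.Quotient.mk_surjective (s : B ⧸ nilradical B)
    refine ⟨s', fun h => s.2 (hs' ▸ Ideal.mem_map_of_mem _ h), ?_⟩
    rw [← Ideal.Quotient.eq_zero_iff_mem, map_mul, hs']
    exact hs
  refine ⟨x, y, hxq, hyq, fun P hP hPq hxP => ?_, fun u u' huv => ?_⟩
  · -- elements of minimal primes are zero divisors modulo the nilradical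
    haveI := hP.isPrime
    obtain ⟨z, hz, hzP⟩ : ∃ z, x * z ∈ nilradical B ∧ z ∉ P := by
      have hfin := minimalPrimes.finite_of_isNoetherianRing B
      by_contra hno
      simp only [not_exists, not_and, not_not] at hno
      classical
      let s := hfin.toFinset.erase P
      have hzex : ¬ (s.inf id : Ideal B) ≤ P := by
        rw [Ideal.IsPrime.inf_le' hP.isPrime]
        rintro ⟨Q, hQ, hQP⟩
        obtain ⟨hne, hQ'⟩ := Finset.mem_erase.1 hQ
        exact hne (le_antisymm hQP (hP.2 (hfin.mem_toFinset.1 hQ').1 hQP))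
      obtain ⟨z, hz, hzP⟩ := SetLike.not_le_iff_exists.1 hzex
      refine hzP (hno z ?_)
      rw [nilradical_eq_sInf, Ideal.mem_sInf]
      intro Q hQ
      haveI : Q.IsPrime := hQ
      obtain ⟨Q₀, hQ₀, hle⟩ := Ideal.exists_minimalPrimes_le (J := Q) (I := ⊥) bot_le
      refine hle ?_
      by_cases hQP : Q₀ = P
      · rw [hQP]
        exact P.mul_mem_right _ hxP
      · exact Q₀.mul_mem_left _ ((Finset.inf_le (f := id) (Finset.mem_erase.2 ⟨hQP, hfin.mem_toFinset.2 hQ₀⟩)) hz)
    have hz0 : φ (x * z) = 0 := by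
      show algebraMap _ T (f (x * z)) = 0
      rw [Ideal.Quotient.eq_zero_iff_mem.2 hz, map_zero]
    rw [map_mul] at hz0
    obtain ⟨s, hs, hsz⟩ := hzero z (hxreg _ hz0)
    exact (hP.isPrime.mem_or_mem (nilradical_le_prime P hsz)).elim (fun h => hs (hPq h)) hzP
  · have h0 : φ (y * u - x * u') = 0 := by
      show algebraMap _ T (f _) = 0
      rw [Ideal.Quotient.eq_zero_iff_mem.2 huv, map_zero]
    rw [map_sub, map_mul, map_mul, sub_eq_zero, hy, hx] at h0
    have hmem : (w : T) * φ u ∈ (c • (⊤ : Submodule T T) : Submodule T T) := by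
      rw [← Submodule.Quotient.mk_eq_zero]
      refine hd ?_
      show d • Submodule.Quotient.mk _ = d • (0 : QuotSMulTop c T)
      rw [smul_zero, ← Submodule.Quotient.mk_smul, Submodule.Quotient.mk_eq_zero, smul_eq_mul, ← mul_assoc, h0,
        mul_assoc]
      exact Submodule.smul_mem_pointwise_smul _ c ⊤ mem_top
    obtain ⟨t, -, ht⟩ := hmem
    have ht' : c * t = (w : T) * φ u := ht
    obtain ⟨e, s, he⟩ := IsLocalization.exists_mk'_eq (q.map f).primeCompl ((↑v⁻¹ : T) * ↑w⁻¹ * t)
    obtain ⟨e', rfl⟩ := Ideal.Quotient.mk_surjective e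
    obtain ⟨s', hs'⟩ := Ideal.Quotient.mk_surjective (s : B ⧸ nilradical B)
    have h3 : φ u = φ x * ((↑v⁻¹ : T) * ↑w⁻¹ * t) := by
      rw [hx, ← mul_assoc, ← mul_assoc, mul_assoc c, v.mul_inv, mul_one, mul_right_comm, ht',
        mul_comm (w : T), mul_assoc, w.mul_inv, mul_one]
    have h4 : φ (s' * u - x * e') = 0 := by
      rw [map_sub, map_mul, map_mul, h3, ← he, sub_eq_zero, mul_left_comm]
      congr 1
      show algebraMap _ T (f s') * _ = _
      rw [hs']
      exact IsLocalization.mk'_spec' T (f e') s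
    obtain ⟨r, hr, hre⟩ := hzero _ h4
    refine ⟨r * s', fun h => ?_, r * e', by convert hre using 1; ring⟩
    rcases (inferInstance : q.IsPrime).mem_or_mem h with h | h
    · exact hr h
    · exact s.2 (hs' ▸ Ideal.mem_map_of_mem _ h)

/-- killed by an element outside the minimal primes below `q` -/
theorem exists_notMem_mul_mem {K : Ideal B} (hK : ∀ P ∈ associatedPrimes B (B ⧸ K), P ∈ minimalPrimes B)
    {q : Ideal B} [q.IsPrime] {x z : B} (hx : ∀ P ∈ minimalPrimes B, P ≤ q → x ∉ P) (hxz : x * z ∈ K) :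
    ∃ t ∉ q, t * z ∈ K := by
  by_contra hno
  simp only [not_exists, not_and] at hno
  let I : Ideal B := (⊥ : Submodule B (B ⧸ K)).colon {Ideal.Quotient.mk K z}
  have hI : ∀ r, r ∈ I ↔ r * z ∈ K := fun r => by
    rw [mem_colon_singleton, mem_bot, ← Ideal.Quotient.eq_zero_iff_mem]
    rfl
  have hIq : I ≤ q := fun r hr => by
    by_contra h
    exact hno r h ((hI r).1 hr)
  obtain ⟨P, hP, hPq⟩ := Ideal.exists_minimalPrimes_le hIq
  let N : Submodule B (B ⧸ K) := span B {Ideal.Quotient.mk K z}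
  have hann : Module.annihilator B N = I := by
    show N.annihilator = I
    ext r
    rw [Submodule.mem_annihilator_span_singleton, mem_colon_singleton, mem_bot]
  have hPass : P ∈ associatedPrimes B (B ⧸ K) :=
    AssociatedPrimes.mem_iff.2 ((AssociatedPrimes.mem_iff.1 (Module.associatedPrimes.minimalPrimes_annihilator_subset_associatedPrimes B N
      (by rw [hann]; exact hP))).map_of_injective N.subtype N.injective_subtype)
  exact hx P (hK P hPass) hPq (hP.1.2 ((hI x).2 hxz))

theorem mem_of_locally {K : Ideal B} {z : B}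
    (h : ∀ q ∈ associatedPrimes B (B ⧸ K), ∃ t ∉ q, t * z ∈ K) : z ∈ K := by
  by_contra hz
  obtain ⟨q, hq, hle⟩ := exists_le_isAssociatedPrime_of_isNoetherianRing B (Ideal.Quotient.mk K z)
    (fun h0 => hz (Ideal.Quotient.eq_zero_iff_mem.1 h0))
  obtain ⟨t, ht, htz⟩ := h q hq
  refine ht (hle ?_)
  rw [mem_colon_singleton, mem_bot]
  show Ideal.Quotient.mk K (t * z) = 0
  exact Ideal.Quotient.eq_zero_iff_mem.2 htz

end Regular

section Main

variable {A : Type u} [CommRing A] [IsArtinianRing A] [IsLocalRing A]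
  {B : Type u} [CommRing B] [Algebra A B] [IsNoetherianRing B]

theorem exists_socle {J : Ideal A} (hJ : J < maximalIdeal A) :
    ∃ a, a ∈ maximalIdeal A ∧ a ∉ J ∧ ∀ r ∈ maximalIdeal A, r * a ∈ J := by
  classical
  have hex : ∃ n, maximalIdeal A ^ n ≤ J := by
    obtain ⟨n, hn⟩ := IsArtinianRing.isNilpotent_jacobson_bot (R := A)
    rw [IsLocalRing.jacobson_eq_maximalIdeal (⊥ : Ideal A) bot_ne_top] at hn
    exact ⟨n, by rw [hn]; exact bot_le⟩
  obtain ⟨m, hm⟩ : ∃ m, Nat.find hex = m + 2 := by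
    have h := Nat.find_spec hex
    have h0 : Nat.find hex ≠ 0 := fun e => by
      rw [e, pow_zero, Ideal.one_eq_top, top_le_iff] at h
      exact hJ.trans_le le_top |>.ne h
    have h1 : Nat.find hex ≠ 1 := fun e => by
      rw [e, pow_one] at h
      exact hJ.not_ge h
    exact ⟨Nat.find hex - 2, by omega⟩
  obtain ⟨a, ha, haJ⟩ := SetLike.not_le_iff_exists.1 (Nat.find_min hex (show m + 1 < Nat.find hex by omega))
  refine ⟨a, Ideal.pow_le_self (Nat.succ_ne_zero m) ha, haJ, fun r hr => ?_⟩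
  have h := Nat.find_spec hex
  rw [hm, pow_succ'] at h
  exact h (Ideal.mul_mem_mul hr ha)

theorem exists_step {J : Ideal A} (hJ : J ≠ ⊥) :
    ∃ J₀ < J, ∃ a ∈ J, a ∉ J₀ ∧ (∀ r ∈ maximalIdeal A, r * a ∈ J₀) ∧ J = J₀ ⊔ Ideal.span {a} := by
  obtain ⟨J₀, hJ₀, hmax⟩ := set_has_maximal_iff_noetherian.2 (inferInstance : IsNoetherian A A)
    {K | K < J} ⟨⊥, bot_lt_iff_ne_bot.2 hJ⟩
  obtain ⟨a, haJ, haJ₀⟩ := SetLike.exists_of_lt (show J₀ < J from hJ₀)
  have heq : ∀ K, J₀ < K → K ≤ J → K = J := fun K h1 h2 => by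
    by_contra hne
    exact hmax K (lt_of_le_of_ne h2 hne) h1
  have hsup : J₀ ⊔ Ideal.span {a} = J := by
    refine heq _ (lt_of_le_of_ne le_sup_left fun h => haJ₀ ?_) (sup_le hJ₀.le ((Ideal.span_singleton_le_iff_mem _).2 haJ))
    rw [h]; exact mem_sup_right (Ideal.mem_span_singleton_self a)
  refine ⟨J₀, hJ₀, a, haJ, haJ₀, fun r hr => ?_, hsup.symm⟩
  have hle : maximalIdeal A * J ≤ J₀ := by
    by_contra h
    have h2 := heq (J₀ ⊔ maximalIdeal A * J) (lt_of_le_of_ne le_sup_left fun e => h (e ▸ le_sup_right))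
      (sup_le hJ₀.le Ideal.mul_le_right)
    exact hJ₀.not_ge (Submodule.le_of_le_smul_of_le_jacobson_bot (IsNoetherian.noetherian J)
      (IsLocalRing.maximalIdeal_le_jacobson _) h2.ge)
  exact hle (Ideal.mul_mem_mul hr haJ)

variable (B) in
/-- the hypotheses -/
structure Hyp : Prop where
  ass : ∀ q ∈ associatedPrimes B B, q ∈ minimalPrimes B
  pair : ∀ (q : Ideal B) [q.IsPrime], 2 ≤ q.height → ∃ x y, x ∈ q ∧ y ∈ q ∧
    (∀ P ∈ minimalPrimes B, P ≤ q → x ∉ P) ∧
      ∀ u v, y * u - x * v ∈ nilradical B → ∃ s ∉ q, ∃ w, s * u - x * w ∈ nilradical B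
  colon : ∀ (q : Ideal B) [q.IsPrime], q.height ≤ 1 → ∀ (J : Ideal A) (a : A), a ∉ J →
    ∀ b : B, algebraMap A B a * b ∈ J.map (algebraMap A B) → ∃ t ∉ q, t * b ∈ (maximalIdeal A).map (algebraMap A B)
  reduced : ∀ (q : Ideal B) [q.IsPrime], q.height ≤ 1 → ∀ b ∈ nilradical B,
    ∃ t ∉ q, t * b ∈ (maximalIdeal A).map (algebraMap A B)

variable (hH : Hyp (A := A) B)
include hH

omit [IsNoetherianRing B] hH in
theorem map_maximalIdeal_le : (maximalIdeal A).map (algebraMap A B) ≤ nilradical B := by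
  rw [Ideal.map_le_iff_le_comap]
  intro r hr
  have h : IsNilpotent r := by
    obtain ⟨n, hn⟩ := IsArtinianRing.isNilpotent_jacobson_bot (R := A)
    rw [IsLocalRing.jacobson_eq_maximalIdeal (⊥ : Ideal A) bot_ne_top] at hn
    refine ⟨n, ?_⟩
    have := Ideal.pow_mem_pow hr n
    rwa [hn] at this
  exact mem_nilradical.2 (h.map _)

/-- regularity modulo every ideal in codimension one -/
theorem regular_codim_one (q : Ideal B) [q.IsPrime] (hq : q.height ≤ 1) {x : B}
    (hx : ∀ P ∈ minimalPrimes B, x ∉ P) :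
    ∀ J : Ideal A, J ≤ maximalIdeal A → ∀ z : B, x * z ∈ J.map (algebraMap A B) →
      ∃ t ∉ q, t * z ∈ J.map (algebraMap A B) := by
  intro J
  induction J using WellFoundedGT.induction with
  | _ J ih =>
    intro hJ z hz
    have hnil : ∀ w, x * w ∈ nilradical B → w ∈ nilradical B := fun w hw => by
      rw [nilradical_eq_sInf, Ideal.mem_sInf]
      intro Q hQ
      haveI : Q.IsPrime := hQ
      obtain ⟨P, hP, hPQ⟩ := Ideal.exists_minimalPrimes_le (J := Q) (I := ⊥) bot_le
      haveI := hP.isPrime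
      exact hPQ ((hP.isPrime.mem_or_mem (nilradical_le_prime P hw)).resolve_left (hx P hP))
    rcases hJ.eq_or_lt with rfl | hlt
    · exact hH.reduced q hq z (hnil z (map_maximalIdeal_le hz))
    · obtain ⟨a, ham, haJ, hsoc⟩ := exists_socle hlt
      have hlt' : J < J ⊔ Ideal.span {a} := lt_of_le_of_ne le_sup_left fun e =>
        haJ (by rw [e]; exact mem_sup_right (Ideal.mem_span_singleton_self a))
      obtain ⟨t, ht, htz⟩ := ih _ hlt' (sup_le hJ ((Ideal.span_singleton_le_iff_mem _).2 ham)) z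
        (Ideal.map_mono le_sup_left hz)
      rw [Ideal.map_sup, Ideal.map_span, Set.image_singleton, mem_sup] at htz
      obtain ⟨j, hj, k, hk, hjk⟩ := htz
      obtain ⟨z', rfl⟩ := Ideal.mem_span_singleton'.1 hk
      have h1 : algebraMap A B a * (x * z') ∈ J.map (algebraMap A B) := by
        rw [show algebraMap A B a * (x * z') = t * (x * z) - x * j by linear_combination x * hjk]
        exact sub_mem (Ideal.mul_mem_left _ _ hz) (Ideal.mul_mem_left _ _ hj)
      obtain ⟨t₁, ht₁, h2⟩ := hH.colon q hq J a haJ _ h1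
      obtain ⟨t₂, ht₂, h3⟩ := hH.reduced q hq (t₁ * z') (hnil _ (by
        rw [mul_left_comm]; exact map_maximalIdeal_le h2))
      refine ⟨t₂ * t₁ * t, fun h => ?_, ?_⟩
      · rcases (inferInstance : q.IsPrime).mem_or_mem h with h | h
        · rcases (inferInstance : q.IsPrime).mem_or_mem h with h | h
          · exact ht₂ h
          · exact ht₁ h
        · exact ht h
      · have h4 : (maximalIdeal A).map (algebraMap A B) * Ideal.span {algebraMap A B a} ≤ J.map (algebraMap A B) := by
          rw [← Set.image_singleton, ← Ideal.map_span, ← Ideal.map_mul]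
          exact Ideal.map_mono (Ideal.mul_le.2 fun r hr s hs => by
            obtain ⟨c, rfl⟩ := Ideal.mem_span_singleton'.1 hs
            rw [mul_left_comm]; exact J.mul_mem_left c (hsoc r hr))
        rw [show t₂ * t₁ * t * z = t₂ * t₁ * j + t₂ * (t₁ * z') * algebraMap A B a by
          linear_combination (-(t₂ * t₁)) * hjk]
        exact add_mem (Ideal.mul_mem_left _ _ hj) (h4 (Ideal.mul_mem_mul h3 (Ideal.mem_span_singleton_self _)))

theorem colon_eq {J : Ideal A} (hS : ∀ q ∈ associatedPrimes B (B ⧸ J.map (algebraMap A B)), q ∈ minimalPrimes B)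
    {a : A} (haJ : a ∉ J) (hsoc : ∀ r ∈ maximalIdeal A, r * a ∈ J) (b : B) :
    algebraMap A B a * b ∈ J.map (algebraMap A B) ↔ b ∈ nilradical B := by
  constructor
  · intro h
    rw [nilradical_eq_sInf, Ideal.mem_sInf]
    intro Q hQ
    haveI : Q.IsPrime := hQ
    obtain ⟨P, hP, hPQ⟩ := Ideal.exists_minimalPrimes_le (J := Q) (I := ⊥) bot_le
    haveI := hP.isPrime
    obtain ⟨t, ht, htb⟩ := hH.colon P (by rw [Ideal.height_eq_zero_iff.2 hP]; exact zero_le_one) J a haJ b h
    exact hPQ ((hP.isPrime.mem_or_mem (nilradical_le_prime P (map_maximalIdeal_le htb))).resolve_left ht)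
  · intro hb
    refine mem_of_locally fun q hq => ?_
    haveI := hq.isPrime
    obtain ⟨t, ht, htb⟩ := hH.reduced q (by rw [Ideal.height_eq_zero_iff.2 (hS q hq)]; exact zero_le_one) b hb
    refine ⟨t, ht, ?_⟩
    have h4 : (maximalIdeal A).map (algebraMap A B) * Ideal.span {algebraMap A B a} ≤ J.map (algebraMap A B) := by
      rw [← Set.image_singleton, ← Ideal.map_span, ← Ideal.map_mul]
      exact Ideal.map_mono (Ideal.mul_le.2 fun r hr s hs => by
        obtain ⟨c, rfl⟩ := Ideal.mem_span_singleton'.1 hs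
        rw [mul_left_comm]; exact J.mul_mem_left c (hsoc r hr))
    rw [show t * (algebraMap A B a * b) = t * b * algebraMap A B a by ring]
    exact h4 (Ideal.mul_mem_mul htb (Ideal.mem_span_singleton_self _))

theorem ass_minimal : ∀ J : Ideal A, J ≤ maximalIdeal A →
    ∀ q ∈ associatedPrimes B (B ⧸ J.map (algebraMap A B)), q ∈ minimalPrimes B := by
  intro J
  induction J using WellFoundedLT.induction with
  | _ J ih =>
    intro hJ q hq
    haveI := hq.isPrime
    rcases eq_or_ne J ⊥ with rfl | hne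
    · refine hH.ass q ?_
      have hbot : ((⊥ : Ideal A).map (algebraMap A B)) = ⊥ := Ideal.map_bot
      rw [hbot] at hq
      exact AssociatedPrimes.mem_iff.2
        ((LinearEquiv.isAssociatedPrime_iff (Submodule.quotEquivOfEqBot (⊥ : Submodule B B) rfl)).1
          (AssociatedPrimes.mem_iff.1 hq))
    obtain ⟨J₀, hJ₀, a, haJ, haJ₀, hsoc, hsup⟩ := exists_step hne
    have hS := ih J₀ hJ₀ (hJ₀.le.trans hJ)
    obtain ⟨-, z', hz'⟩ := isAssociatedPrime_iff.1 (AssociatedPrimes.mem_iff.1 hq)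
    obtain ⟨z, rfl⟩ := Ideal.Quotient.mk_surjective z'
    have hmem : ∀ r, r ∈ q ↔ r * z ∈ J.map (algebraMap A B) := fun r => by
      rw [hz', mem_colon_singleton, mem_bot, ← Ideal.Quotient.eq_zero_iff_mem]; rfl
    rw [← Ideal.height_eq_zero_iff]
    by_contra h0
    by_cases h1 : q.height ≤ 1
    · obtain ⟨x, hxq, hx⟩ : ∃ x ∈ q, ∀ P ∈ minimalPrimes B, x ∉ P := by
        have hfin := minimalPrimes.finite_of_isNoetherianRing B
        by_contra hno
        simp only [not_exists, not_and, not_forall, not_not] at hno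
        have hsub : (q : Set B) ⊆ ⋃ P ∈ (hfin.toFinset : Set (Ideal B)), (P : Set B) := fun x hx => by
          obtain ⟨P, hP, hxP⟩ := hno x hx
          exact Set.mem_biUnion (hfin.mem_toFinset.2 hP) hxP
        obtain ⟨P, hP, hqP⟩ := (Ideal.subset_union_prime ⊥ ⊥ fun P hP _ _ => (hfin.mem_toFinset.1 hP).isPrime).1 hsub
        have hP' := hfin.mem_toFinset.1 hP
        exact h0 (Ideal.height_eq_zero_iff.2 ((le_antisymm hqP (hP'.2 ⟨inferInstance, bot_le⟩ hqP)) ▸ hP'))
      obtain ⟨t, ht, htz⟩ := regular_codim_one hH q h1 hx J hJ z ((hmem x).1 hxq)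
      exact ht ((hmem t).2 htz)
    · have h2 : 2 ≤ q.height := Order.add_one_le_of_lt (not_le.1 h1)
      obtain ⟨x, y, hxq, hyq, hxP, hpair⟩ := hH.pair q h2
      have hxz := (hmem x).1 hxq
      have hyz := (hmem y).1 hyq
      rw [hsup, Ideal.map_sup, Ideal.map_span, Set.image_singleton, mem_sup] at hxz hyz
      obtain ⟨j, hj, k, hk, hju⟩ := hxz
      obtain ⟨j', hj', k', hk', hjv⟩ := hyz
      obtain ⟨u, rfl⟩ := Ideal.mem_span_singleton'.1 hk
      obtain ⟨v, rfl⟩ := Ideal.mem_span_singleton'.1 hk'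
      have hN : y * u - x * v ∈ nilradical B := by
        rw [← colon_eq hH hS haJ₀ hsoc,
          show algebraMap A B a * (y * u - x * v) = x * j' - y * j by linear_combination y * hju - x * hjv]
        exact sub_mem (Ideal.mul_mem_left _ _ hj') (Ideal.mul_mem_left _ _ hj)
      obtain ⟨s, hs, w, hsw⟩ := hpair u v hN
      rw [← colon_eq hH hS haJ₀ hsoc] at hsw
      have h5 : x * (s * z - w * algebraMap A B a) ∈ J₀.map (algebraMap A B) := by
        rw [show x * (s * z - w * algebraMap A B a) = s * j + algebraMap A B a * (s * u - x * w) by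
          linear_combination (-s) * hju]
        exact add_mem (Ideal.mul_mem_left _ _ hj) hsw
      obtain ⟨t, ht, ht'⟩ := exists_notMem_mul_mem hS hxP h5
      have : t * s ∈ q := (hmem _).2 <| by
        rw [show t * s * z = t * (s * z - w * algebraMap A B a) + t * w * algebraMap A B a by ring, hsup,
          Ideal.map_sup, Ideal.map_span, Set.image_singleton]
        exact add_mem (mem_sup_left ht') (mem_sup_right (Ideal.mul_mem_left _ _ (Ideal.mem_span_singleton_self _)))
      exact ((inferInstance : q.IsPrime).mem_or_mem this).elim ht hs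

theorem map_maximalIdeal_eq : (maximalIdeal A).map (algebraMap A B) = nilradical B := by
  refine le_antisymm map_maximalIdeal_le fun b hb => mem_of_locally fun q hq => ?_
  haveI := hq.isPrime
  exact hH.reduced q (by rw [Ideal.height_eq_zero_iff.2 (ass_minimal hH _ le_rfl q hq)]; exact zero_le_one) b hb

theorem flat : Module.Flat A B := by
  refine Module.Flat.iff_rTensor_injective'.2 fun J => ?_
  rw [injective_iff_map_eq_zero]
  induction J using WellFoundedLT.induction with
  | _ J ih =>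
    intro η hη
    rcases eq_or_ne J ⊥ with rfl | hne
    · exact Subsingleton.elim _ _
    obtain ⟨J₀, hJ₀, a, haJ, haJ₀, hsoc, hsup⟩ := exists_step hne
    let ι : J₀ →ₗ[A] J := Submodule.inclusion hJ₀.le
    have hform : ∀ η : TensorProduct A J B, ∃ η₀ b, η = ι.rTensor B η₀ + (⟨a, haJ⟩ : J) ⊗ₜ[A] b := by
      intro η
      induction η using TensorProduct.induction_on with
      | zero => exact ⟨0, 0, by simp⟩
      | add p p' hp hp' =>
        obtain ⟨η₁, b₁, rfl⟩ := hp
        obtain ⟨η₂, b₂, rfl⟩ := hp'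
        exact ⟨η₁ + η₂, b₁ + b₂, by rw [map_add, TensorProduct.tmul_add]; abel⟩
      | tmul j b =>
        obtain ⟨j₀, hj₀, k, hk, hjk⟩ := mem_sup.1 (show (j : A) ∈ J₀ ⊔ Ideal.span {a} from hsup ▸ j.2)
        obtain ⟨c, rfl⟩ := Ideal.mem_span_singleton'.1 hk
        refine ⟨(⟨j₀, hj₀⟩ : J₀) ⊗ₜ b, c • b, ?_⟩
        rw [LinearMap.rTensor_tmul, TensorProduct.tmul_smul, TensorProduct.smul_tmul', ← TensorProduct.add_tmul]
        congr 1
        exact Subtype.ext hjk.symm
    obtain ⟨η₀, b, rfl⟩ := hform η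
    let μ : TensorProduct A J B →ₗ[A] B := (TensorProduct.lid A B).toLinearMap ∘ₗ J.subtype.rTensor B
    have hμ : μ (ι.rTensor B η₀ + (⟨a, haJ⟩ : J) ⊗ₜ[A] b) = 0 := by simp only [μ, LinearMap.comp_apply, hη, map_zero]
    have hμ₀ : ∀ p : TensorProduct A J₀ B, μ (ι.rTensor B p) ∈ J₀.map (algebraMap A B) := by
      intro p
      induction p using TensorProduct.induction_on with
      | zero => simp
      | add p p' hp hp' => rw [map_add, map_add]; exact add_mem hp hp'
      | tmul j b =>
        show (j : A) • b ∈ _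
        rw [Algebra.smul_def]
        exact Ideal.mul_mem_right _ _ (Ideal.mem_map_of_mem _ j.2)
    have hab : algebraMap A B a * b ∈ J₀.map (algebraMap A B) := by
      rw [map_add] at hμ
      rw [show algebraMap A B a * b = μ ((⟨a, haJ⟩ : J) ⊗ₜ[A] b) from (Algebra.smul_def a b).symm,
        eq_neg_of_add_eq_zero_right hμ]
      exact neg_mem (hμ₀ η₀)
    have hJ₀m : J₀ ≤ maximalIdeal A := le_maximalIdeal (hJ₀.trans_le le_top).ne
    rw [colon_eq hH (ass_minimal hH _ hJ₀m) haJ₀ hsoc, ← map_maximalIdeal_eq hH,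
      ← Submodule.restrictScalars_mem A, ← Ideal.smul_top_eq_map] at hab
    obtain ⟨η₁, hη₁⟩ : ∃ η₁, ι.rTensor B η₁ = (⟨a, haJ⟩ : J) ⊗ₜ[A] b := by
      refine Submodule.smul_induction_on hab (fun r hr b' _ => ?_) fun p p' hp hp' => ?_
      · refine ⟨(⟨r * a, hsoc r hr⟩ : J₀) ⊗ₜ b', ?_⟩
        rw [LinearMap.rTensor_tmul, TensorProduct.tmul_smul, TensorProduct.smul_tmul']
        rfl
      · obtain ⟨η₁, h₁⟩ := hp
        obtain ⟨η₂, h₂⟩ := hp'
        exact ⟨η₁ + η₂, by rw [map_add, h₁, h₂, TensorProduct.tmul_add]⟩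
    rw [← hη₁, ← map_add] at hη ⊢
    rw [ih J₀ hJ₀ (η₀ + η₁) (by
      rw [← hη, ← LinearMap.comp_apply, ← LinearMap.rTensor_comp]; rfl), map_zero]

end Main

section Instance

variable {A : Type u} [CommRing A] [IsArtinianRing A] [IsLocalRing A]
  {B : Type u} [CommRing B] [Algebra A B] [IsNoetherianRing B]

theorem hyp_of_hasSk (hS1 : LocCoh.HasSk 1 B B) (hS2 : LocCoh.HasSk 2 (B ⧸ nilradical B) (B ⧸ nilradical B))
    (hcodim : ∀ (q : Ideal B) [q.IsPrime], q.height ≤ 1 → Module.Flat A (Localization.AtPrime q) ∧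
      IsReduced (Localization.AtPrime q ⧸ (maximalIdeal A).map (algebraMap A (Localization.AtPrime q)))) :
    Hyp (A := A) B := by
  have hdown : ∀ (q : Ideal B) [q.IsPrime] (J : Ideal A) (b : B),
      algebraMap B (Localization.AtPrime q) b ∈ J.map (algebraMap A (Localization.AtPrime q)) →
        ∃ t ∉ q, t * b ∈ J.map (algebraMap A B) := by
    intro q _ J b hb
    rw [IsScalarTower.algebraMap_eq A B (Localization.AtPrime q), ← Ideal.map_map,
      IsLocalization.algebraMap_mem_map_algebraMap_iff q.primeCompl] at hb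
    obtain ⟨t, ht, htb⟩ := hb
    exact ⟨t, ht, htb⟩
  refine ⟨fun q hq => mem_minimalPrimes_of_mem_associatedPrimes hS1 hq, fun q _ hq => exists_pair hS2 q hq,
    fun q _ hq J a haJ b hab => hdown q _ b ?_, fun q _ hq b hb => hdown q _ b ?_⟩
  · obtain ⟨hfl, -⟩ := hcodim q hq
    let C := Localization.AtPrime q
    let K : Ideal A := J.colon {a}
    let g : A ⧸ K →ₗ[A] A ⧸ J := K.liftQ (J.mkQ ∘ₗ LinearMap.mulRight A a) fun r hr => by
      rw [LinearMap.mem_ker, LinearMap.comp_apply, LinearMap.mulRight_apply, Submodule.mkQ_apply, Submodule.Quotient.mk_eq_zero]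
      exact mem_colon_singleton.1 hr
    have hg : Function.Injective g := by
      rw [← LinearMap.ker_eq_bot, LinearMap.ker_eq_bot']
      intro x hx
      obtain ⟨r, rfl⟩ := Submodule.mkQ_surjective K x
      rw [Submodule.mkQ_apply, Submodule.liftQ_apply, LinearMap.comp_apply, LinearMap.mulRight_apply, Submodule.mkQ_apply, Submodule.Quotient.mk_eq_zero] at hx
      exact (Submodule.Quotient.mk_eq_zero K).2 (mem_colon_singleton.2 hx)
    have hinj := Module.Flat.rTensor_preserves_injective_linearMap (M := C) g hg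
    let c := algebraMap B C b
    have h0 : g.rTensor C ((1 : A ⧸ K) ⊗ₜ[A] c) = 0 := by
      rw [LinearMap.rTensor_tmul, show g 1 = a • (1 : A ⧸ J) from ?_, TensorProduct.smul_tmul,
        ← (TensorProduct.quotTensorEquivQuotSMul C J).map_eq_zero_iff,
        TensorProduct.quotTensorEquivQuotSMul_mk_one_tmul, Submodule.Quotient.mk_eq_zero,
        Ideal.smul_top_eq_map, Submodule.restrictScalars_mem, Algebra.smul_def,
        IsScalarTower.algebraMap_apply A B C, ← map_mul, IsScalarTower.algebraMap_eq A B C, ← Ideal.map_map]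
      · exact Ideal.mem_map_of_mem _ hab
      · show J.mkQ (1 * a) = a • (1 : A ⧸ J)
        rw [one_mul, Algebra.smul_def, mul_one]
        rfl
    have h1 : (1 : A ⧸ K) ⊗ₜ[A] c = 0 := hinj (h0.trans (map_zero _).symm)
    rw [← (TensorProduct.quotTensorEquivQuotSMul C K).map_eq_zero_iff,
        TensorProduct.quotTensorEquivQuotSMul_mk_one_tmul, Submodule.Quotient.mk_eq_zero,
        Ideal.smul_top_eq_map, Submodule.restrictScalars_mem] at h1
    refine Ideal.map_mono (le_maximalIdeal fun h => haJ ?_) h1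
    have : (1 : A) ∈ K := h ▸ mem_top
    simpa [K, mem_colon_singleton] using this
  · obtain ⟨-, hred⟩ := hcodim q hq
    rw [← Ideal.Quotient.eq_zero_iff_mem]
    exact (((mem_nilradical.1 hb).map (algebraMap B (Localization.AtPrime q))).map (Ideal.Quotient.mk _)).eq_zero

end Instance

end Groth.Agent.FlatArt
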